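import Cfsg.Agent.R2.H8.Core.Main
import Cfsg.Agent.R2.H9.E6.Asm
import Cfsg.Agent.R2.H9.E6.EB

/-!
# S5749, S5750: the final reduction (helper8)

`Rest` : the statement on the remaining patterns; `core_of_rest`; `e6_of_rest`, `tw_of_rest` : the two statements.
-/

set_option autoImplicit false

namespace Cfsg.Agent.R2.H8.Core

open Cfsg Cfsg.Lie Module Matrix
open Cfsg.Agent.ChevalleyStructure.E6Min.Basic
open Cfsg.Agent.H943.SL2Mod Cfsg.Agent.R2.H28.SL2
open Cfsg.Agent.H163.E6 (V V')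
open Cfsg.Agent.R2.H9.E6
open Cfsg.Agent.R2.H22.Loc (Nts)
open Cfsg.Agent.R2.SL2 (tyl)

universe u v

/-- the remaining patterns (`p = 11`) are impossible -/
def Rest {F : Type u} [Field F] [Fintype F] {K : Type v} [Field K] [Fintype K] (p a : ℕ)
    (ψ : ProjectiveSpecialLinearGroup (Fin 2) K →* ↥(Zgrp F)) : Prop :=
  ∀ [DecidableEq (AlgebraicClosure F)] [DecidableEq K] [Fact p.Prime] [CharP (AlgebraicClosure F) p] [CharP K p]
      (ι : K →+* AlgebraicClosure F) (W : List (List ℕ)),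
      Fra p a (psk ψ) (V (AlgebraicClosure F)) (V' (AlgebraicClosure F)) → Nts (psk ψ) (V (AlgebraicClosure F)) →
      Nts (psk ψ) (V' (AlgebraicClosure F)) →
      (p = 11 ∧ 2 ≤ a ∧ W = [[1, 1], [4], [8], [8]]) ∨ (a = 1 ∧ p = 11 ∧ W = [[], [2], [4], [8], [8]]) →
      (W : Multiset (List ℕ)) = (cf (Sy.{u, u, v} ι p) (Rr (V (AlgebraicClosure F)) (psk ψ))).map (tyl p) → False

/-- **the configuration is impossible** -/
theorem core_of_rest {F : Type u} [Field F] [Fintype F] {K : Type v} [Field K] [Fintype K] {p a b : ℕ}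
    {Γ M : Subgroup ↥(Zgrp F)} {ψ : ProjectiveSpecialLinearGroup (Fin 2) K →* ↥(Zgrp F)} (h : Cfg p a b Γ M ψ)
    (hr : Rest p a ψ) : False := by
  have hp := h.prime
  have h2 := hp.two_le
  by_cases h2' : p = 2
  · subst h2'
    exact core_two h
  by_cases h3 : p = 3
  · subst h3
    exact core_three h
  have h4 : p ≠ 4 := by
    rintro rfl
    exact absurd hp (by norm_num)
  refine core_five_of h (by omega) ?_
  intro _ _ _ _ _ ι W f nts nts' hW hw
  rcases hW with ⟨h13, rfl⟩ | hW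
  · exact Nsp.boxE (ι := ι) (f0 := algebraMap F (AlgebraicClosure F)) h f h13 nts nts' hw
  · exact hr ι W f nts nts' hW hw

/-- **S5749** -/
theorem e6_of_rest {F : Type u} [Field F] [Fintype F] (p : ℕ) [Fact p.Prime] [CharP F p]
    (H : Subgroup (chevE6.group F)) (hH : IsCoatom H) {K : Type v} [Field K] [Fintype K] (a : ℕ) (ha : 1 ≤ a)
    (hK : Fintype.card K = p ^ a)
    (hr : ∀ (b : ℕ) (M : Subgroup ↥(Zgrp F)) (ψ : ProjectiveSpecialLinearGroup (Fin 2) K →* ↥(Zgrp F)),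
      Fintype.card F = p ^ b → Cfg p a b ⊤ M ψ → Rest p a ψ) :
    IsEmpty (generalizedFittingSubgroup H ≃* ProjectiveSpecialLinearGroup (Fin 2) K) :=
  e6_of_core p H hH a ha hK fun b M ψ hF h => core_of_rest h (hr b M ψ hF h)

/-- **S5750** -/
theorem tw_of_rest {L : Type u} [Field L] [Fintype L] (p b : ℕ) [Fact p.Prime] (hb : 1 ≤ b)
    (hL : Fintype.card L = (p ^ b) ^ 2)
    (H : Subgroup (twistedE6 L (p ^ b))) (hH : IsCoatom H) {K : Type v} [Field K] [Fintype K] (a : ℕ) (ha : 1 ≤ a)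
    (hK : Fintype.card K = p ^ a)
    (hr : ∀ (Γ M : Subgroup ↥(Zgrp L)) (ψ : ProjectiveSpecialLinearGroup (Fin 2) K →* ↥(Zgrp L)),
      Cfg p a b Γ M ψ → Rest p a ψ) :
    IsEmpty (generalizedFittingSubgroup H ≃* ProjectiveSpecialLinearGroup (Fin 2) K) :=
  tw_of_core p b hb hL H hH a ha hK fun Γ M ψ h _ => core_of_rest h (hr Γ M ψ h)

end Cfsg.Agent.R2.H8.Core
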