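import Cfsg.Agent.R2.H8.NoFix.Main
import Cfsg.Agent.R2.H28.SL2.Kills
import Cfsg.Agent.R2.H22.P11
import Cfsg.Agent.R2.H22.NR
import Cfsg.Agent.R2.H9.E6.Cfg

/-!
# S5749, S5750: the frame over an algebraically closed field (helper8)

`fx_of_cfg` : no fixed vectors over an extension field; `fra_of_cfg` : the frame `Fra`; `nts_of_cfg` : no stable totally
singular subspaces; `nts_of_cfg'`.
-/

set_option autoImplicit false
set_option linter.unusedSectionVars false

namespace Cfsg.Agent.R2.H8.Core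

open Cfsg Cfsg.Lie Module Matrix
open Cfsg.Agent.ChevalleyStructure
open Cfsg.Agent.ChevalleyStructure.E6Min.Basic
open Cfsg.Agent.H943.SL2Rel Cfsg.Agent.H943.SL2Mod Cfsg.Agent.H943.RepAdd
open Cfsg.Agent.R2.H28.SL2
open Cfsg.Agent.H163.E6 (V V')
open Cfsg.Agent.H65.E6Emb
open Cfsg.Agent.R2.GEO (Pair)
open Cfsg.Agent.R2.H9.E6
open Cfsg.Agent.R2.H22.Loc (Nts)

universe u v w

variable {F : Type u} [Field F] [Fintype F] {K : Type v} [Field K] [Fintype K] {p a b : ℕ}
  {Γ M : Subgroup ↥(Zgrp F)} {ψ : ProjectiveSpecialLinearGroup (Fin 2) K →* ↥(Zgrp F)}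

/-- **no fixed vectors over an extension field** -/
theorem fx_of_cfg (h : Cfg p a b Γ M ψ) {k : Type w} [Field k] (f : F →+* k)
    {ρ : Representation k ↥(Zgrp k) (I27 → k)} (hρ : ρ = V k ∨ ρ = V' k) (x : I27 → k)
    (hx : ∀ g, ρ (((emb f).comp (ψ.comp pq)) g) x = x) : x = 0 := by
  rcases hρ with rfl | rfl
  · have h1 := ext_inv_V (f := f) ψ
    have h2 : Representation.invariants (MonoidHom.comp (V F) ψ) = ⊥ := by
      rw [eq_bot_iff]
      intro z hz
      exact (Submodule.mem_bot F).2 (NoFix.Main.no_fix h _ (Or.inl rfl) z ((Representation.mem_invariants _ _).1 hz))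
    rw [h2, ext_bot] at h1
    have h3 : x ∈ Representation.invariants (MonoidHom.comp (V k) ((emb f).comp ψ)) := by
      rw [Representation.mem_invariants]
      intro a
      obtain ⟨g, rfl⟩ := pq_surjective a
      exact hx g
    rw [← h1] at h3
    exact (Submodule.mem_bot k).1 h3
  · have h1 := ext_inv_V' (f := f) ψ
    have h2 : Representation.invariants (MonoidHom.comp (V' F) ψ) = ⊥ := by
      rw [eq_bot_iff]
      intro z hz
      exact (Submodule.mem_bot F).2 (NoFix.Main.no_fix h _ (Or.inr rfl) z ((Representation.mem_invariants _ _).1 hz))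
    rw [h2, ext_bot] at h1
    have h3 : x ∈ Representation.invariants (MonoidHom.comp (V' k) ((emb f).comp ψ)) := by
      rw [Representation.mem_invariants]
      intro a
      obtain ⟨g, rfl⟩ := pq_surjective a
      exact hx g
    rw [← h1] at h3
    exact (Submodule.mem_bot k).1 h3

theorem h_neg_one [DecidableEq K] : pq (h (-1 : Kˣ)) = (1 : ProjectiveSpecialLinearGroup (Fin 2) K) := by
  rw [pq_eq_one]
  right
  ext i j
  fin_cases i <;> fin_cases j <;> simp [h]

/-- **the frame** -/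
theorem fra_of_cfg (h : Cfg p a b Γ M ψ) (hp : p ≠ 2) [Fact p.Prime] {k : Type w} [Field k] [DecidableEq k]
    [IsAlgClosed k] [DecidableEq K] [CharP k p] [CharP K p] (f : F →+* k)
    {ρ ρ' : Representation k ↥(Zgrp k) (I27 → k)} (hρ : Pair ρ ρ') : Fra p a ((emb f).comp (ψ.comp pq)) ρ ρ' where
  perf := Cfsg.Agent.TwoFusion.SLTwoFacts.commutator_eq_top (F := K) (by have := h.seven; omega)
  card := h.cardK
  odd := hp
  pair := hρ
  cen := by
    rw [MonoidHom.comp_apply, MonoidHom.comp_apply, h_neg_one, map_one, map_one]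
  fix x hx := fx_of_cfg h f (hρ.imp (fun h => h.1) fun h => h.1) x hx
  fix' x hx := fx_of_cfg h f (hρ.symm.imp (fun h => h.2) fun h => h.2) x hx

/-- **no stable totally singular subspaces** -/
theorem nts_of_cfg (h : Cfg p a b Γ M ψ) (hp : p ≠ 2) [Fact p.Prime] {k : Type u} [Field k] [DecidableEq k]
    [Algebra F k] [Algebra.IsAlgebraic F k] [IsAlgClosed k] [DecidableEq K] [CharP k p] [CharP K p] (ι : K →+* k)
    {ρ ρ' : Representation k ↥(Zgrp k) (I27 → k)} (hρ : Pair ρ ρ') :
    Nts ((emb (algebraMap F k)).comp (ψ.comp pq)) ρ := by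
  intro W hst hts
  by_contra h0
  have f := fra_of_cfg h hp (algebraMap F k) hρ
  have hex : ¬ Cfsg.Agent.R2.H22.Root.Exc F p b := by
    rintro ⟨h1, -⟩
    have h3 : p ∣ 2 := by
      rw [← h1]
      exact dvd_pow_self p (by have := h.hb; omega)
    exact hp ((Nat.prime_dvd_prime_iff_eq h.prime Nat.prime_two).1 h3)
  have hst' : ∀ x, ∀ w ∈ W, ρ (emb (algebraMap F k) (ψ x)) w ∈ W := by
    intro x
    obtain ⟨g, rfl⟩ := pq_surjective x
    exact hst g
  rcases f.ts_dim ι hst hts h0 with h3 | h6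
  · exact Cfsg.Agent.R2.H22.Root.no_ts_three h hp ρ (hρ.imp (fun h => h.1) fun h => h.1) h3 hts hst'
  · exact Cfsg.Agent.R2.H22.Root.no_ts_six h hex ρ (hρ.imp (fun h => h.1) fun h => h.1) h6 hts hst'

end Cfsg.Agent.R2.H8.Core
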