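import Cfsg.Agent.R2.H8.NoFix.Pat

/-!
# S5749, S5750: the composition pattern of the 27-dimensional module, by the characteristic (helper8)
-/

set_option autoImplicit false
set_option linter.unusedSectionVars false
set_option maxHeartbeats 400000

namespace Cfsg.Agent.R2.H8.Core

open Cfsg Cfsg.Lie Module Matrix
open Cfsg.Agent.ChevalleyStructure
open Cfsg.Agent.ChevalleyStructure.E6Min.Basic Cfsg.Agent.ChevalleyStructure.E6Min.Adjoint
open Cfsg.Agent.H163.E6
open Cfsg.Agent.H943.SL2Rel Cfsg.Agent.H943.SL2Mod Cfsg.Agent.H943.RepAdd Cfsg.Agent.R2.H28.SL2 Cfsg.Agent.R2.SL2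
open Cfsg.Agent.R2.H9.E6 Cfsg.Agent.R2.H8.NoFix.Two Cfsg.Agent.R2.H8.NoFix.Pat
open Cfsg.Agent.H952.F4 (ev)
open Cfsg.Agent.R2.H8.NoFix

universe u w

variable {F : Type u} [Field F] [Fintype F] {K : Type w} [Field K] [Fintype K] [DecidableEq K]
  [DecidableEq (AlgebraicClosure F)]

/-- **the pattern** -/
theorem exists_pat' {p a : ℕ} [Fact p.Prime] [CharP F p] [CharP K p] [CharP (AlgebraicClosure F) p]
    (hK : Fintype.card K = p ^ a)
    (κ : K →+* AlgebraicClosure F)
    {φ : ProjectiveSpecialLinearGroup (Fin 2) K →* ↥(Zgrp (AlgebraicClosure F))} (hφ : Function.Injective φ) :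
    ∃ w : List (List ℕ), ((5 ≤ p ∧ w ∈ listE6) ∨ (p = 3 ∧ w ∈ listE6_3) ∨ (p = 2 ∧ w ∈ listE6_2)) ∧
      (w : Multiset (List ℕ)) = (cf (Sy.{u, u, w} κ p) (Rr (V (AlgebraicClosure F)) (φ.comp pq))).map (tyl p) := by
  have hT := Tor.tab_closed p (F := F)
  set ρ := Rr (V (AlgebraicClosure F)) (φ.comp pq) with hρ
  have H := isMult_cf κ p hK ρ
  have hms := ms_count (cf_lt.{u, u, w} κ p hK ρ)
  have hd : finrank (AlgebraicClosure F) (I27 → AlgebraicClosure F) = 27 := by
    rw [Module.finrank_fintype_fun_eq_card]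
    rfl
  have hc : ρ (Cfsg.Agent.H943.SL2Rel.h (-1)) = 1 := by
    show V (AlgebraicClosure F) (φ (pq (Cfsg.Agent.H943.SL2Rel.h (-1)))) = 1
    rw [pq_neg, map_one, map_one]
  have h4 : p ≠ 2 → finrank (AlgebraicClosure F) (eig ρ (g4 K) 1) = 15 ∨
      finrank (AlgebraicClosure F) (eig ρ (g4 K) 1) = 11 := by
    intro hp2
    rw [eig_eq]
    have h1 := hT.two hp2 (φ (pq (g4 K))) (fun h => g4_facts.1 (hφ (by rw [h, map_one])))
      (by rw [← map_mul, g4_facts.2, map_one])
    rcases h1 with h1 | h1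
    · exact Or.inl h1.1
    · exact Or.inr h1.1
  have h3 : p ≠ 3 → finrank (AlgebraicClosure F) (eig ρ (g3 K) 1) = 15 ∨
      finrank (AlgebraicClosure F) (eig ρ (g3 K) 1) = 9 := by
    intro hp3
    have h1 := hT.three hp3 (φ (pq (g3 K))) (by
      intro h
      have h2 := (Cfsg.Agent.H65.E6Ext.ker_pow h).2
      have h5 : pq (g3 K) ∈ Subgroup.center (ProjectiveSpecialLinearGroup (Fin 2) K) := by
        rw [Subgroup.mem_center_iff]
        intro x
        apply hφ
        rw [map_mul, map_mul]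
        exact h2 _
      rw [psl_center, Subgroup.mem_bot] at h5
      exact g3_facts.1 h5) (by rw [← map_pow, g3_facts.2, map_one])
    have h6 := three_sum (p := p) hp3 (cf (Sy.{u, u, w} κ p) ρ)
    have h7 := dimS_cf.{u, u, w} κ p hK ρ
    have h8 := ev_three H hp3
    rw [hms] at h8
    rw [h7, hd, h8] at h6
    rw [eig_eq] at h6 ⊢
    rcases h1 with h1 | h1 | h1 | h1
    · exact Or.inl h1.1
    · exact Or.inr h1.1
    · exact Or.inr h1.1
    · exfalso
      have h9 : ev (ρ (g3 K)) 1 = 6 := h1.1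
      rw [h9] at h6
      omega
  have hp := (Fact.out : p.Prime)
  have h2p := hp.two_le
  rcases Nat.lt_or_ge 4 p with h5 | h5
  · obtain ⟨w, hw, hw'⟩ := isMult_patE6 H (by omega) hc hd (h4 (by omega)) (h3 (by omega))
    rw [hms] at hw'
    exact ⟨w, Or.inl ⟨by omega, hw⟩, hw'⟩
  · have h23 : p = 2 ∨ p = 3 := by
      have : p ≠ 4 := by
        rintro rfl
        exact absurd hp (by norm_num)
      omega
    rcases h23 with h23 | h23
    · obtain ⟨w, hw, hw'⟩ := isMult_patE6_two H h23 hd (h3 (by omega))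
      rw [hms] at hw'
      exact ⟨w, Or.inr (Or.inr ⟨h23, hw⟩), hw'⟩
    · obtain ⟨w, hw, hw'⟩ := isMult_patE6_three H h23 hc hd (h4 (by omega))
      rw [hms] at hw'
      exact ⟨w, Or.inr (Or.inl ⟨h23, hw⟩), hw'⟩


end Cfsg.Agent.R2.H8.Core
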