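import Cfsg.Agent.R2.H8.Core.Alt
import Cfsg.Agent.R2.H14.T.Main

/-!
# S5749, S5750, type `22 + 22 + 22`, `p ≥ 5`: three submodules which form a triangle (helper8)

* `All22` : all composition factors have type `22`;
* `All22.exists_three` : `V = X₀ ⊕ X₁ ⊕ X₂`; `All22.mult_one` : distinct labels; `All22.mixed` : products of two submodules;
* `All22.triangle` : the submodules for `H14.T.boxT`.
-/

set_option autoImplicit false
set_option linter.unusedSectionVars false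
set_option maxHeartbeats 400000

namespace Cfsg.Agent.R2.H8.Core

open Matrix TensorProduct
open Cfsg.Agent.H943.SL2Rel Cfsg.Agent.H943.SL2Mod Cfsg.Agent.H943.RepAdd
open Cfsg.Lie
open Cfsg.Agent.ChevalleyStructure Cfsg.Agent.ChevalleyStructure.E6Form.Cubic
  Cfsg.Agent.ChevalleyStructure.E6Form.Table
open Cfsg.Agent.ChevalleyStructure.E6Min.Basic (Zgrp)
open Cfsg.Agent.ChevalleyStructure.E6Min.Inv
open Cfsg.Agent.H952.F4 (sh cr tf)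
open Cfsg.Agent.H952.F4.Jord
open Cfsg.Agent.R2.GEO (Pair crB crB_apply tfB tfB_apply kr mem_kr finrank_kr_le)
open Cfsg.Agent.R2.H28.SL2
open Cfsg.Agent.R2.SL2 (tyl)
open Cfsg.Agent.R2.H14.T (bw Dg3)

universe u v w x

variable {k : Type u} [Field k] [DecidableEq k] [IsAlgClosed k] {K : Type w} [Field K] [Fintype K] [DecidableEq K]
  (ι : K →+* k) {p a : ℕ} [Fact p.Prime] [CharP k p] [CharP K p]
  {ψ : SpecialLinearGroup (Fin 2) K →* ↥(Zgrp k)} {ρ ρ' : Representation k ↥(Zgrp k) (I27 → k)}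

/-- all composition factors have type `22` -/
structure All22 (p a : ℕ) [Fact p.Prime] [CharP k p] [CharP K p] (ψ : SpecialLinearGroup (Fin 2) K →* ↥(Zgrp k))
    (ρ ρ' : Representation k ↥(Zgrp k) (I27 → k)) : Prop where
  fra : Fra p a ψ ρ ρ'
  five : 5 ≤ p
  all : ∀ c ∈ cf (Sy.{u, u, w} ι p) (Rr ρ ψ), ∃ i j, i ≠ j ∧ i < a ∧ j < a ∧ c = 2 * p ^ i + 2 * p ^ j

variable {ι}

theorem All22.swap (S : All22 ι p a ψ ρ ρ') : All22 ι p a ψ ρ' ρ :=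
  ⟨S.fra.swap, S.five, fun c hc => S.all c (by rwa [S.fra.cf_eq ι] at hc)⟩

theorem All22.soc (S : All22 ι p a ψ ρ ρ') {c : ℕ} (h : InSoc ι p (Rr ρ ψ) c) :
    ∃ i j, i ≠ j ∧ i < a ∧ j < a ∧ c = 2 * p ^ i + 2 * p ^ j := S.all c h.mem_cf

omit [DecidableEq k] [IsAlgClosed k] [DecidableEq K] [CharP k p] [CharP K p] in
theorem pair_cases (h5 : 5 ≤ p) {i j m n c : ℕ} (hij : i ≠ j) (hmn : m ≠ n) (hc : c = 2 * p ^ m + 2 * p ^ n) :
    c ≠ 4 * p ^ i + 4 * p ^ j ∧ c ≠ 4 * p ^ i ∧ c ≠ 4 * p ^ j := by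
  have h1 : tyl p c = [2, 2] := by rw [hc]; exact tyl_pair (by omega) (by omega) le_rfl (by omega) hmn
  refine ⟨?_, ?_, ?_⟩
  · intro h
    rw [h, tyl_pair (by omega) (by omega) le_rfl (by omega) hij] at h1
    simp at h1
  · intro h
    rw [h, tyl_single (by omega) (by omega)] at h1
    simp at h1
  · intro h
    rw [h, tyl_single (by omega) (by omega)] at h1
    simp at h1

theorem All22.no (S : All22 ι p a ψ ρ ρ') {i j : ℕ} (hij : i ≠ j) (c : ℕ) (h : InSoc ι p (Rr ρ' ψ) c) :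
    c ≠ 4 * p ^ i + 4 * p ^ j ∧ c ≠ 4 * p ^ i ∧ c ≠ 4 * p ^ j := by
  obtain ⟨m, n, hmn, -, -, hc⟩ := S.swap.soc h
  exact pair_cases S.five hij hmn hc

/-- a submodule of type `22` -/
structure X22 (ι : K →+* k) (p a : ℕ) [Fact p.Prime] [CharP k p] [CharP K p]
    (r : Representation k (SpecialLinearGroup (Fin 2) K) (I27 → k)) (X : Submodule k (I27 → k)) (i j : ℕ) : Prop where
  ne : i ≠ j
  hi : i < a
  hj : j < a
  isv : ∃ hX : ∀ g, ∀ x ∈ X, r g x ∈ X, IsV ι p (subRep r X hX) (2 * p ^ i + 2 * p ^ j)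

theorem X22.symm {r : Representation k (SpecialLinearGroup (Fin 2) K) (I27 → k)} {X : Submodule k (I27 → k)} {i j : ℕ}
    (T : X22 ι p a r X i j) : X22 ι p a r X j i := by
  obtain ⟨hX, h⟩ := T.isv
  exact ⟨T.ne.symm, T.hj, T.hi, hX, by rwa [add_comm] at h⟩

theorem X22.nine (S : All22 ι p a ψ ρ ρ') {X : Submodule k (I27 → k)} {i j : ℕ}
    (T : X22 ι p a (Rr ρ ψ) X i j) : Module.finrank k X = 9 := by
  obtain ⟨hX, h⟩ := T.isv
  have := S.five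
  exact h.dim_pair ι S.fra.card (by omega) (by omega) T.ne T.hi T.hj

/-- irreducible submodules -/
theorem All22.exists_irr (S : All22 ι p a ψ ρ ρ') {W : Submodule k (I27 → k)} (hW : ∀ g, ∀ x ∈ W, Rr ρ ψ g x ∈ W)
    (hW0 : W ≠ ⊥) : ∃ (X : Submodule k (I27 → k)) (i j : ℕ), X ≤ W ∧ X22 ι p a (Rr ρ ψ) X i j := by
  have : Nontrivial W := Submodule.nontrivial_iff_ne_bot.2 hW0
  obtain ⟨c, Y, hY, hc⟩ := exists_inSoc ι p (subRep (Rr ρ ψ) W hW)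
  obtain ⟨hY', e, he⟩ := eqv_map (subRep (Rr ρ ψ) W hW) (Rr ρ ψ) W.subtype (fun _ _ => rfl) W.injective_subtype Y hY
  have h1 := IsV.iso ι p e he hc
  obtain ⟨i, j, hij, hi, hj, rfl⟩ := S.soc ⟨_, hY', h1⟩
  refine ⟨Y.map W.subtype, i, j, ?_, hij, hi, hj, hY', h1⟩
  rintro _ ⟨y, -, rfl⟩
  exact y.2

/-- complements -/
theorem All22.compl (S : All22 ι p a ψ ρ ρ') {X : Submodule k (I27 → k)} {i j : ℕ} (T : X22 ι p a (Rr ρ ψ) X i j) :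
    ∃ C : Submodule k (I27 → k), (∀ g, ∀ x ∈ C, Rr ρ ψ g x ∈ C) ∧ IsCompl X C ∧ Module.finrank k C = 18 := by
  obtain ⟨hX, h⟩ := T.isv
  have := S.five
  obtain ⟨C, hC, hXC⟩ := S.fra.l22 ι (by omega) T.ne T.hi T.hj X hX h (fun h => (S.no T.ne _ h).2.1 rfl)
    fun h => (S.no T.ne _ h).2.2 rfl
  refine ⟨C, hC, hXC, ?_⟩
  have h1 := Submodule.finrank_add_eq_of_isCompl hXC
  rw [T.nine S, Module.finrank_fintype_fun_eq_card] at h1
  have h2 : Fintype.card I27 = 27 := rfl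
  omega

/-- **three submodules** -/
theorem All22.exists_three (S : All22 ι p a ψ ρ ρ') : ∃ (X₀ X₁ X₂ : Submodule k (I27 → k)) (i₀ j₀ i₁ j₁ i₂ j₂ : ℕ),
    X22 ι p a (Rr ρ ψ) X₀ i₀ j₀ ∧ X22 ι p a (Rr ρ ψ) X₁ i₁ j₁ ∧
      X22 ι p a (Rr ρ ψ) X₂ i₂ j₂ ∧ X₀ ⊓ X₁ = ⊥ ∧ X₀ ⊓ X₂ = ⊥ ∧ X₁ ⊓ X₂ = ⊥ ∧ X₀ ⊔ (X₁ ⊔ X₂) = ⊤ := by
  have h27 : Module.finrank k (I27 → k) = 27 := by
    rw [Module.finrank_fintype_fun_eq_card]
    rfl
  have hnt : (⊤ : Submodule k (I27 → k)) ≠ ⊥ := by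
    intro h
    have h1 : Module.finrank k (⊤ : Submodule k (I27 → k)) = 0 := by rw [h, finrank_bot]
    rw [finrank_top, h27] at h1
    omega
  obtain ⟨X₀, i₀, j₀, -, T₀⟩ := S.exists_irr (W := ⊤) (fun _ _ _ => trivial) hnt
  obtain ⟨V₁, hV₁, hc₀, hd₁⟩ := S.compl T₀
  have hb₁ : V₁ ≠ ⊥ := by
    rintro rfl
    rw [finrank_bot] at hd₁
    omega
  obtain ⟨X₁, i₁, j₁, hX₁, T₁⟩ := S.exists_irr hV₁ hb₁
  obtain ⟨K₁, hK₁, hc₁, hdK⟩ := S.compl T₁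
  have hV₂ : ∀ g, ∀ x ∈ V₁ ⊓ K₁, Rr ρ ψ g x ∈ V₁ ⊓ K₁ := fun g x hx => ⟨hV₁ g x hx.1, hK₁ g x hx.2⟩
  have hd₂ : 9 ≤ Module.finrank k ↑(V₁ ⊓ K₁) := by
    have h1 := Submodule.finrank_sup_add_finrank_inf_eq V₁ K₁
    have h2 := Submodule.finrank_le (V₁ ⊔ K₁)
    omega
  have hb₂ : V₁ ⊓ K₁ ≠ ⊥ := by
    intro h
    rw [h, finrank_bot] at hd₂
    omega
  obtain ⟨X₂, i₂, j₂, hX₂, T₂⟩ := S.exists_irr hV₂ hb₂
  have e1 : X₁ ⊓ X₂ = ⊥ := by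
    rw [eq_bot_iff, ← disjoint_iff.1 hc₁.1]
    exact inf_le_inf_left _ (hX₂.trans inf_le_right)
  have e12 : X₁ ⊔ X₂ ≤ V₁ := sup_le hX₁ (hX₂.trans inf_le_left)
  have e0 : X₀ ⊓ (X₁ ⊔ X₂) = ⊥ := by
    rw [eq_bot_iff, ← disjoint_iff.1 hc₀.1]
    exact inf_le_inf_left _ e12
  refine ⟨X₀, X₁, X₂, i₀, j₀, i₁, j₁, i₂, j₂, T₀, T₁, T₂, ?_, ?_, e1, ?_⟩
  · rw [eq_bot_iff, ← e0]
    exact inf_le_inf_left _ le_sup_left
  · rw [eq_bot_iff, ← e0]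
    exact inf_le_inf_left _ le_sup_right
  · apply Submodule.eq_top_of_finrank_eq
    have h1 := Submodule.finrank_sup_add_finrank_inf_eq X₁ X₂
    have h2 := Submodule.finrank_sup_add_finrank_inf_eq X₀ (X₁ ⊔ X₂)
    rw [e1, finrank_bot] at h1
    rw [e0, finrank_bot] at h2
    have := T₀.nine S
    have := T₁.nine S
    have := T₂.nine S
    omega

/-- **multiplicities** -/
theorem All22.mult_one (S : All22 ι p a ψ ρ ρ') {X X' : Submodule k (I27 → k)} {i j : ℕ}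
    (T : X22 ι p a (Rr ρ ψ) X i j) (T' : X22 ι p a (Rr ρ ψ) X' i j) : X ⊓ X' ≠ ⊥ := by
  intro hinf
  have h5 := S.five
  have f := S.fra
  obtain ⟨hX, hb⟩ := T.isv
  obtain ⟨hX', hb'⟩ := T'.isv
  obtain ⟨A, B, _, _, _, _, σ, τ, hσ, hτ, e, he⟩ := hb.split ι p f.card
    (fun l _ => digit_disj p (by omega) (by omega) T.ne l) (single_lt p (by omega) T.hi) (single_lt p (by omega) T.hj)
  have := hσ.finite
  have := hτ.finite
  have hten := isV_tens ι p f.card hσ hτ fun l _ => digit_disj p (by omega) (by omega) T.ne l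
  obtain ⟨e', he'⟩ := IsV.eqv ι p hten hb'
  let E : A ⊗[k] B →ₗ[k] (I27 → k) := X.subtype ∘ₗ (e : A ⊗[k] B →ₗ[k] X)
  let E' : A ⊗[k] B →ₗ[k] (I27 → k) := X'.subtype ∘ₗ (e' : A ⊗[k] B →ₗ[k] X')
  have hE : ∀ g x, E (σ.tprod τ g x) = Rr ρ ψ g (E x) := by
    intro g x
    show ((e (σ.tprod τ g x) : X) : I27 → k) = _
    rw [he]
    rfl
  have hE' : ∀ g x, E' (σ.tprod τ g x) = Rr ρ ψ g (E' x) := by
    intro g x
    show ((e' (σ.tprod τ g x) : X') : I27 → k) = _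
    rw [he']
    rfl
  have hEm : ∀ x, E x ∈ X := fun x => (e x).2
  have hEm' : ∀ x, E' x ∈ X' := fun x => (e' x).2
  have hEi : Function.Injective E := fun x y h => e.injective (Subtype.ext h)
  have hEi' : Function.Injective E' := fun x y h => e'.injective (Subtype.ext h)
  have hnt := hten.irr.1
  obtain ⟨z, hz⟩ := exists_ne (0 : A ⊗[k] B)
  have hE0' : E' ≠ 0 := fun h => hz (hEi' (by rw [h, map_zero]; rfl))
  let bA := Module.finBasisOfFinrankEq k A (hσ.dim_single ι f.card (by omega))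
  let bB := Module.finBasisOfFinrankEq k B (hτ.dim_single ι f.card (by omega))
  have hno := S.no T.ne
  obtain ⟨m0, h0⟩ : ∃ m, m = bA 0 ⊗ₜ[k] bB 0 := ⟨_, rfl⟩
  obtain ⟨m1, h1⟩ : ∃ m, m = bA 1 ⊗ₜ[k] bB 1 := ⟨_, rfl⟩
  obtain ⟨m2, h2⟩ : ∃ m, m = bA 2 ⊗ₜ[k] bB 2 := ⟨_, rfl⟩
  have hne' := nz22 ι f (by omega) T.ne T.hi T.hj hσ hτ hE' hE0' hno bA bB
  rw [← h0, ← h1, ← h2] at hne'
  have hpoly : ∃ s : k, tf (cr (E' m0) (E' m1)) (E' m2) * s ^ 3 +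
      (tf (cr (E m0) (E' m1)) (E' m2) + tf (cr (E' m0) (E m1)) (E' m2) + tf (cr (E' m0) (E' m1)) (E m2)) * s ^ 2 +
      (tf (cr (E m0) (E m1)) (E' m2) + tf (cr (E m0) (E' m1)) (E m2) + tf (cr (E' m0) (E m1)) (E m2)) * s +
      tf (cr (E m0) (E m1)) (E m2) = 0 := by
    obtain ⟨s, hs⟩ := IsAlgClosed.exists_root (Polynomial.C (tf (cr (E' m0) (E' m1)) (E' m2)) * Polynomial.X ^ 3 +
      Polynomial.C (tf (cr (E m0) (E' m1)) (E' m2) + tf (cr (E' m0) (E m1)) (E' m2) +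
        tf (cr (E' m0) (E' m1)) (E m2)) * Polynomial.X ^ 2 +
      Polynomial.C (tf (cr (E m0) (E m1)) (E' m2) + tf (cr (E m0) (E' m1)) (E m2) +
        tf (cr (E' m0) (E m1)) (E m2)) * Polynomial.X +
      Polynomial.C (tf (cr (E m0) (E m1)) (E m2))) (by
        rw [Polynomial.degree_cubic hne']
        norm_num)
    refine ⟨s, ?_⟩
    rw [Polynomial.IsRoot.def] at hs
    simpa only [Polynomial.eval_add, Polynomial.eval_mul, Polynomial.eval_C, Polynomial.eval_pow, Polynomial.eval_X] using hs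
  obtain ⟨s, hs⟩ := hpoly
  refine nz22 ι f (by omega) T.ne T.hi T.hj hσ hτ (E := E + s • E') ?_ ?_ hno bA bB ?_
  · intro g x
    rw [LinearMap.add_apply, LinearMap.smul_apply, hE, hE', LinearMap.add_apply, LinearMap.smul_apply, map_add, map_smul]
  · intro h
    have h3 : E z ∈ X ⊓ X' := by
      refine ⟨hEm z, ?_⟩
      have h4 := LinearMap.congr_fun h z
      rw [LinearMap.add_apply, LinearMap.smul_apply, LinearMap.zero_apply] at h4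
      rw [eq_neg_of_add_eq_zero_left h4]
      exact X'.neg_mem (X'.smul_mem _ (hEm' z))
    rw [hinf] at h3
    exact hz (hEi (by rw [(Submodule.mem_bot k).1 h3, map_zero]))
  · rw [← h0, ← h1, ← h2, LinearMap.add_apply, LinearMap.add_apply, LinearMap.add_apply, LinearMap.smul_apply,
      LinearMap.smul_apply, LinearMap.smul_apply]
    simp only [cr_add_left, cr_add_right, cr_smul_left, cr_smul_right, tf_add_left, tf_add_right, tf_smul_left,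
      tf_smul_right]
    linear_combination hs

omit [DecidableEq k] [IsAlgClosed k] [DecidableEq K] [CharP k p] [CharP K p] in
/-- the digits of the factors of the product -/
theorem digits_mixed (h5 : 5 ≤ p) {i j i' j' m n : ℕ} (hij : i ≠ j) (hi : i < a) (hj : j < a) (hij' : i' ≠ j')
    (hi' : i' < a) (hj' : j' < a) (hmn : m ≠ n) (hd : ¬ ((i = i' ∧ j = j') ∨ (i = j' ∧ j = i')))
    (hc : 2 * p ^ m + 2 * p ^ n ∈ cg p a (2 * p ^ i + 2 * p ^ j) (2 * p ^ i' + 2 * p ^ j')) :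
    ∃ q j₁ j₂, q ≠ j₁ ∧ q ≠ j₂ ∧ j₁ ≠ j₂ ∧ ((i = q ∧ j = j₁) ∨ (i = j₁ ∧ j = q)) ∧
      ((i' = q ∧ j' = j₂) ∨ (i' = j₂ ∧ j' = q)) ∧ ((m = j₁ ∧ n = j₂) ∨ (m = j₂ ∧ n = j₁)) := by
  have hp : p.Prime := Fact.out
  have d1 := fun l => Cfsg.Agent.R2.H14.T.dg_two hp.one_lt (x := 2) (y := 2) (by omega) (by omega) hij l
  have d2 := fun l => Cfsg.Agent.R2.H14.T.dg_two hp.one_lt (x := 2) (y := 2) (by omega) (by omega) hij' l
  have d3 := fun l => Cfsg.Agent.R2.H14.T.dg_two hp.one_lt (x := 2) (y := 2) (by omega) (by omega) hmn l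
  obtain ⟨-, h1⟩ := mem_cg hp.pos a (fun l _ => by
    rw [d1, d2]
    split_ifs <;> omega) hc
  -- a digit of exactly one of the labels is a digit of the factor
  have k1 : ∀ l < a, (l = i ∨ l = j) → ¬ (l = i' ∨ l = j') → (l = m ∨ l = n) := by
    intro l hl h2 h3
    have h4 := (h1 l hl).2.1
    rw [d1, d2, d3] at h4
    by_contra h6
    push Not at h3 h6
    rw [if_neg h3.1, if_neg h3.2, if_neg h6.1, if_neg h6.2] at h4
    rcases h2 with rfl | rfl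
    · rw [if_pos rfl] at h4
      omega
    · rw [if_neg (Ne.symm hij), if_pos rfl] at h4
      omega
  have k2 : ∀ l < a, (l = i' ∨ l = j') → ¬ (l = i ∨ l = j) → (l = m ∨ l = n) := by
    intro l hl h2 h3
    have h4 := (h1 l hl).2.2.1
    rw [d1, d2, d3] at h4
    by_contra h6
    push Not at h3 h6
    rw [if_neg h3.1, if_neg h3.2, if_neg h6.1, if_neg h6.2] at h4
    rcases h2 with rfl | rfl
    · rw [if_pos rfl] at h4
      omega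
    · rw [if_neg (Ne.symm hij'), if_pos rfl] at h4
      omega
  have e1 := k1 i hi (Or.inl rfl)
  have e2 := k1 j hj (Or.inr rfl)
  have e3 := k2 i' hi' (Or.inl rfl)
  have e4 := k2 j' hj' (Or.inr rfl)
  clear h1 k1 k2 hc d1 d2 d3
  by_cases c1 : i = i'
  · have c2 : j ≠ j' := fun h => hd (Or.inl ⟨c1, h⟩)
    exact ⟨i, j, j', hij, by omega, c2, Or.inl ⟨rfl, rfl⟩, Or.inl ⟨c1.symm, rfl⟩, by omega⟩
  by_cases c2 : i = j'
  · have c3 : j ≠ i' := fun h => hd (Or.inr ⟨c2, h⟩)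
    exact ⟨i, j, i', hij, by omega, c3, Or.inl ⟨rfl, rfl⟩, Or.inr ⟨rfl, c2.symm⟩, by omega⟩
  by_cases c3 : j = i'
  · exact ⟨j, i, j', by omega, by omega, c2, Or.inr ⟨rfl, rfl⟩, Or.inl ⟨c3.symm, rfl⟩, by omega⟩
  by_cases c4 : j = j'
  · exact ⟨j, i, i', by omega, by omega, c1, Or.inr ⟨rfl, rfl⟩, Or.inr ⟨rfl, c4.symm⟩, by omega⟩
  · exfalso
    omega

section

variable {A : Type u} [AddCommGroup A] [Module k A] [FiniteDimensional k A] {B : Type u} [AddCommGroup B] [Module k B]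
  [FiniteDimensional k B] {σ : Representation k (SpecialLinearGroup (Fin 2) K) A}
  {τ : Representation k (SpecialLinearGroup (Fin 2) K) B} {V : Type u} [AddCommGroup V] [Module k V]
  [FiniteDimensional k V] {r : Representation k (SpecialLinearGroup (Fin 2) K) V}

/-- bilinear maps without common factors vanish -/
theorem prod_zero (hK : Fintype.card K = p ^ a) {b d : ℕ} (hσ : IsV ι p σ b) (hτ : IsV ι p τ d) (hb : b < p ^ a)
    (hd : d < p ^ a) (hov : ∀ l < a, b / p ^ l % p + d / p ^ l % p < p) (β : A →ₗ[k] B →ₗ[k] V)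
    (he : ∀ g x y, β (σ g x) (τ g y) = r g (β x y)) (hno : ∀ c ∈ cg p a b d, ¬ InSoc ι p r c) (x : A) (y : B) :
    β x y = 0 := by
  have hp : p.Prime := Fact.out
  have h1 : ∀ g z, TensorProduct.lift β (σ.tprod τ g z) = r g (TensorProduct.lift β z) := by
    intro g z
    induction z using TensorProduct.induction_on with
    | zero => rw [map_zero, map_zero, map_zero]
    | tmul y z =>
      rw [Representation.tprod_apply, TensorProduct.map_tmul, TensorProduct.lift.tmul, TensorProduct.lift.tmul]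
      exact he g y z
    | add y z hy hz => rw [map_add, map_add, hy, hz, map_add, map_add]
  have hcf : cf (Sy.{u, u, w} ι p) (σ.tprod τ) = cg p a b d := by
    refine cf_of_cs ι p hK (fun c hc => (mem_cg hp.pos a hov hc).1) fun z hz => ?_
    rw [cs_tens ι p hK _ _ hz, cf_irr (Sy.{u, u, w} ι p) hσ, cf_irr (Sy.{u, u, w} ι p) hτ, cs_singleton,
      cs_singleton, cs_cg k p a hb hd hov (hz.ne_zero (two_le_q p hK))]
  have h2 := map_eq_zero ι p (σ.tprod τ) r (TensorProduct.lift β) h1 (by rw [hcf]; exact hno)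
  have h3 : TensorProduct.lift β (x ⊗ₜ y) = β x y := TensorProduct.lift.tmul x y
  rw [h2, LinearMap.zero_apply] at h3
  exact h3.symm

end

/-- **products of two submodules** -/
theorem All22.mixed (S : All22 ι p a ψ ρ ρ') {X X' : Submodule k (I27 → k)} {i j i' j' : ℕ}
    (T : X22 ι p a (Rr ρ ψ) X i j) (T' : X22 ι p a (Rr ρ ψ) X' i' j') (hinf : X ⊓ X' = ⊥)
    {x y : I27 → k} (hx : x ∈ X) (hy : y ∈ X') (hxy : cr x y ≠ 0) :
    ∃ q j₁ j₂, q ≠ j₁ ∧ q ≠ j₂ ∧ j₁ ≠ j₂ ∧ ((i = q ∧ j = j₁) ∨ (i = j₁ ∧ j = q)) ∧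
      ((i' = q ∧ j' = j₂) ∨ (i' = j₂ ∧ j' = q)) ∧ 2 * p ^ j₁ + 2 * p ^ j₂ ∈ cf (Sy.{u, u, w} ι p) (Rr ρ ψ) := by
  have hp : p.Prime := Fact.out
  have h5 := S.five
  have f := S.fra
  obtain ⟨hX, hb⟩ := T.isv
  obtain ⟨hX', hb'⟩ := T'.isv
  have hd : ¬ ((i = i' ∧ j = j') ∨ (i = j' ∧ j = i')) := by
    rintro (⟨rfl, rfl⟩ | ⟨rfl, rfl⟩)
    · exact S.mult_one T T' hinf
    · exact S.mult_one T T'.symm hinf
  have hov : ∀ l < a, (2 * p ^ i + 2 * p ^ j) / p ^ l % p + (2 * p ^ i' + 2 * p ^ j') / p ^ l % p < p := by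
    intro l _
    rw [Cfsg.Agent.R2.H14.T.dg_two hp.one_lt (x := 2) (y := 2) (by omega) (by omega) T.ne l,
      Cfsg.Agent.R2.H14.T.dg_two hp.one_lt (x := 2) (y := 2) (by omega) (by omega) T'.ne l]
    split_ifs <;> omega
  by_contra hcon
  refine hxy (prod_zero (ι := ι) f.card hb hb' (pair_lt p (by omega) (by omega) T.ne T.hi T.hj)
    (pair_lt p (by omega) (by omega) T'.ne T'.hi T'.hj) hov ((crB k).compl₁₂ X.subtype X'.subtype)
    (r := Rr ρ' ψ) (fun g x y => pair_cr f.pair (ψ g) _ _) ?_ ⟨x, hx⟩ ⟨y, hy⟩)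
  intro c hc hs
  have hm := hs.mem_cf
  rw [f.cf_eq ι] at hm
  obtain ⟨m, n, hmn, -, -, rfl⟩ := S.all c hm
  obtain ⟨q, j₁, j₂, h1, h2, h3, h4, h6, h7⟩ := digits_mixed h5 T.ne T.hi T.hj T'.ne T'.hi T'.hj hmn hd hc
  refine hcon ⟨q, j₁, j₂, h1, h2, h3, h4, h6, ?_⟩
  rcases h7 with ⟨rfl, rfl⟩ | ⟨rfl, rfl⟩
  · exact hm
  · rwa [add_comm] at hm

omit [DecidableEq k] [IsAlgClosed k] [DecidableEq K] [CharP k p] [CharP K p] in
/-- labels determine the digits -/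
theorem pair_eq (h5 : 5 ≤ p) {i j m n : ℕ} (hij : i ≠ j) (hmn : m ≠ n)
    (h : 2 * p ^ i + 2 * p ^ j = 2 * p ^ m + 2 * p ^ n) : (i = m ∧ j = n) ∨ (i = n ∧ j = m) := by
  have hp : p.Prime := Fact.out
  have d1 := fun l => Cfsg.Agent.R2.H14.T.dg_two hp.one_lt (x := 2) (y := 2) (by omega) (by omega) hij l
  have d2 := fun l => Cfsg.Agent.R2.H14.T.dg_two hp.one_lt (x := 2) (y := 2) (by omega) (by omega) hmn l
  rw [h] at d1
  have e1 := (d1 i).symm.trans (d2 i)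
  have e2 := (d1 j).symm.trans (d2 j)
  rw [if_pos rfl] at e1
  rw [if_neg (Ne.symm hij), if_pos rfl] at e2
  by_contra hcon
  split_ifs at e1 e2 <;> omega

/-- three submodules with a triangle of labels -/
theorem triangle_of (hij : ∃ q j₁ j₂ : ℕ, q ≠ j₁ ∧ q ≠ j₂ ∧ j₁ ≠ j₂ ∧ q < a ∧ j₁ < a ∧ j₂ < a ∧
      ∃ X₀ X₁ X₂, X22 ι p a (Rr ρ ψ) X₀ q j₁ ∧ X22 ι p a (Rr ρ ψ) X₁ q j₂ ∧ X22 ι p a (Rr ρ ψ) X₂ j₁ j₂)
    (h5 : 5 ≤ p) : ∃ (i : Fin 3 → ℕ) (_ : Dg3 p a i) (X : Fin 3 → Submodule k (I27 → k))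
      (hX : ∀ c s, ∀ x ∈ X c, Rr ρ ψ s x ∈ X c), ∀ c, IsV ι p (subRep (Rr ρ ψ) (X c) (hX c)) (bw p i c) := by
  obtain ⟨q, j₁, j₂, h1, h2, h3, hq, hj₁, hj₂, X₀, X₁, X₂, T₀, T₁, T₂⟩ := hij
  have key : ∀ c : Fin 3, ∃ (X : Submodule k (I27 → k)) (hX : ∀ s, ∀ x ∈ X, Rr ρ ψ s x ∈ X),
      IsV ι p (subRep (Rr ρ ψ) X hX) (bw p ![q, j₁, j₂] c) := by
    intro c
    fin_cases c
    · obtain ⟨hX, h⟩ := T₂.isv
      exact ⟨X₂, hX, h⟩
    · obtain ⟨hX, h⟩ := T₁.symm.isv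
      exact ⟨X₁, hX, h⟩
    · obtain ⟨hX, h⟩ := T₀.isv
      exact ⟨X₀, hX, h⟩
  choose X hX hV using key
  refine ⟨![q, j₁, j₂], ⟨Or.inr h5, ?_, ?_⟩, X, hX, hV⟩
  · have key : ∀ c d : Fin 3, (![q, j₁, j₂] : Fin 3 → ℕ) c = (![q, j₁, j₂] : Fin 3 → ℕ) d → c = d := by
      intro c d hcd
      fin_cases c <;> fin_cases d <;>
        first | rfl | exact absurd hcd h1 | exact absurd hcd h1.symm | exact absurd hcd h2 | exact absurd hcd h2.symm |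
          exact absurd hcd h3 | exact absurd hcd h3.symm
    exact fun c d hcd => key c d hcd
  · intro c
    fin_cases c
    · exact hq
    · exact hj₁
    · exact hj₂

theorem card22 (S : All22 ι p a ψ ρ ρ') {m n : ℕ} (hmn : m ≠ n) (hm : m < a) (hn : n < a) :
    (Bf k (2 * p ^ m + 2 * p ^ n)).card = 9 := by
  have h5 := S.five
  have hb : 2 * p ^ m + 2 * p ^ n ≤ Fintype.card K - 1 := by
    have h1 := pair_lt (a := a) p (n := 2) (m := 2) (by omega) (by omega) hmn hm hn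
    rw [S.fra.card]
    omega
  have hV : IsV ι p (RB ι p hb) (2 * p ^ m + 2 * p ^ n) := ⟨hb, LinearEquiv.refl k _, fun _ _ => rfl⟩
  rw [← IsV.finrank ι hV]
  exact hV.dim_pair ι S.fra.card (by omega) (by omega) hmn hm hn

/-- the composition factors -/
theorem All22.cf_three (S : All22 ι p a ψ ρ ρ') {X₀ X₁ X₂ : Submodule k (I27 → k)} {i₀ j₀ i₁ j₁ i₂ j₂ : ℕ}
    (T₀ : X22 ι p a (Rr ρ ψ) X₀ i₀ j₀) (T₁ : X22 ι p a (Rr ρ ψ) X₁ i₁ j₁) (T₂ : X22 ι p a (Rr ρ ψ) X₂ i₂ j₂)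
    (b01 : X₀ ⊓ X₁ = ⊥) (b02 : X₀ ⊓ X₂ = ⊥) (b12 : X₁ ⊓ X₂ = ⊥) {c : ℕ} (hc : c ∈ cf (Sy.{u, u, w} ι p) (Rr ρ ψ)) :
    c = 2 * p ^ i₀ + 2 * p ^ j₀ ∨ c = 2 * p ^ i₁ + 2 * p ^ j₁ ∨ c = 2 * p ^ i₂ + 2 * p ^ j₂ := by
  have h5 := S.five
  have ne : ∀ {X X' : Submodule k (I27 → k)} {i j i' j' : ℕ}, X22 ι p a (Rr ρ ψ) X i j → X22 ι p a (Rr ρ ψ) X' i' j' →
      X ⊓ X' = ⊥ → 2 * p ^ i + 2 * p ^ j ≠ 2 * p ^ i' + 2 * p ^ j' := by
    intro X X' i j i' j' T T' hb h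
    rcases pair_eq h5 T.ne T'.ne h with ⟨rfl, rfl⟩ | ⟨rfl, rfl⟩
    · exact S.mult_one T T' hb
    · exact S.mult_one T T'.symm hb
  have hm : ∀ {X : Submodule k (I27 → k)} {i j : ℕ}, X22 ι p a (Rr ρ ψ) X i j →
      2 * p ^ i + 2 * p ^ j ∈ cf (Sy.{u, u, w} ι p) (Rr ρ ψ) := by
    intro X i j T
    obtain ⟨hX, h⟩ := T.isv
    exact InSoc.mem_cf ι p ⟨X, hX, h⟩
  by_contra hcon
  push Not at hcon
  have hle : ({c, 2 * p ^ i₀ + 2 * p ^ j₀, 2 * p ^ i₁ + 2 * p ^ j₁, 2 * p ^ i₂ + 2 * p ^ j₂} : Multiset ℕ) ≤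
      cf (Sy.{u, u, w} ι p) (Rr ρ ψ) := by
    rw [Multiset.le_iff_subset]
    · intro x hx
      simp only [Multiset.insert_eq_cons, Multiset.mem_cons, Multiset.mem_singleton] at hx
      rcases hx with rfl | rfl | rfl | rfl
      · exact hc
      · exact hm T₀
      · exact hm T₁
      · exact hm T₂
    · simp only [Multiset.insert_eq_cons, Multiset.nodup_cons, Multiset.mem_cons, Multiset.mem_singleton,
        Multiset.nodup_singleton, not_or, and_true]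
      exact ⟨⟨hcon.1, hcon.2.1, hcon.2.2⟩, ⟨ne T₀ T₁ b01, ne T₀ T₂ b02⟩, ne T₁ T₂ b12⟩
  have h9 := finrank_cf ι p _ _ (Rr ρ ψ) le_rfl
  obtain ⟨t, ht⟩ := Multiset.le_iff_exists_add.1 hle
  have h11 : Module.finrank k (I27 → k) = 27 := by
    rw [Module.finrank_fintype_fun_eq_card]
    rfl
  obtain ⟨m, n, hmn, hma, hna, rfl⟩ := S.all c hc
  rw [ht, h11] at h9
  simp only [Multiset.insert_eq_cons, Multiset.cons_add, Multiset.singleton_add, Multiset.map_cons, Multiset.sum_cons,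
    card22 S hmn hma hna, card22 S T₀.ne T₀.hi T₀.hj, card22 S T₁.ne T₁.hi T₁.hj, card22 S T₂.ne T₂.hi T₂.hj] at h9
  omega

/-- the triangle -/
theorem All22.tri_aux (S : All22 ι p a ψ ρ ρ') {X₀ X₁ X₂ : Submodule k (I27 → k)} {i₀ j₀ i₁ j₁ i₂ j₂ : ℕ}
    (T₀ : X22 ι p a (Rr ρ ψ) X₀ i₀ j₀) (T₁ : X22 ι p a (Rr ρ ψ) X₁ i₁ j₁) (T₂ : X22 ι p a (Rr ρ ψ) X₂ i₂ j₂)
    (b01 : X₀ ⊓ X₁ = ⊥) (b02 : X₀ ⊓ X₂ = ⊥) (b12 : X₁ ⊓ X₂ = ⊥) {x y : I27 → k} (hx : x ∈ X₀) (hy : y ∈ X₁)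
    (hxy : cr x y ≠ 0) : ∃ q j₁ j₂ : ℕ, q ≠ j₁ ∧ q ≠ j₂ ∧ j₁ ≠ j₂ ∧ q < a ∧ j₁ < a ∧ j₂ < a ∧
      ∃ X₀ X₁ X₂, X22 ι p a (Rr ρ ψ) X₀ q j₁ ∧ X22 ι p a (Rr ρ ψ) X₁ q j₂ ∧ X22 ι p a (Rr ρ ψ) X₂ j₁ j₂ := by
  have h5 := S.five
  obtain ⟨q, l₁, l₂, h1, h2, h3, h4, h6, h7⟩ := S.mixed T₀ T₁ b01 hx hy hxy
  have hT₀ : X22 ι p a (Rr ρ ψ) X₀ q l₁ := by
    rcases h4 with ⟨rfl, rfl⟩ | ⟨rfl, rfl⟩
    · exact T₀
    · exact T₀.symm
  have hT₁ : X22 ι p a (Rr ρ ψ) X₁ q l₂ := by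
    rcases h6 with ⟨rfl, rfl⟩ | ⟨rfl, rfl⟩
    · exact T₁
    · exact T₁.symm
  refine ⟨q, l₁, l₂, h1, h2, h3, hT₀.hi, hT₀.hj, hT₁.hj, X₀, X₁, X₂, hT₀, hT₁, ?_⟩
  rcases S.cf_three hT₀ hT₁ T₂ b01 b02 b12 h7 with h | h | h
  · exfalso
    have := pair_eq h5 h3 h1 h
    omega
  · exfalso
    have := pair_eq h5 h3 h2 h
    omega
  · rcases pair_eq h5 h3 T₂.ne h with ⟨rfl, rfl⟩ | ⟨rfl, rfl⟩
    · exact T₂
    · exact T₂.symm

/-- **the types form a triangle** -/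
theorem All22.triangle (S : All22 ι p a ψ ρ ρ') : ∃ (i : Fin 3 → ℕ) (_ : Dg3 p a i) (X : Fin 3 → Submodule k (I27 → k))
      (hX : ∀ c s, ∀ x ∈ X c, Rr ρ ψ s x ∈ X c), ∀ c, IsV ι p (subRep (Rr ρ ψ) (X c) (hX c)) (bw p i c) := by
  have h5 := S.five
  obtain ⟨X₀, X₁, X₂, i₀, j₀, i₁, j₁, i₂, j₂, T₀, T₁, T₂, b01, b02, b12, htop⟩ := S.exists_three
  refine triangle_of ?_ h5
  obtain ⟨m, hm, hm0⟩ : ∃ m ∈ X₀, m ≠ 0 := by
    by_contra hcon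
    push Not at hcon
    have h1 : X₀ = ⊥ := by
      rw [eq_bot_iff]
      intro x hx
      exact (Submodule.mem_bot k).2 (hcon x hx)
    have h2 := T₀.nine S
    rw [h1, finrank_bot] at h2
    omega
  have h1 := finrank_kr_le hm0
  have h3 := Submodule.finrank_sup_add_finrank_inf_eq X₁ X₂
  rw [b12, finrank_bot, T₁.nine S, T₂.nine S] at h3
  have hle : ¬ X₁ ⊔ X₂ ≤ kr m := by
    intro hle
    have := Submodule.finrank_mono hle
    omega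
  by_cases hc1 : X₁ ≤ kr m
  · have hc2 : ¬ X₂ ≤ kr m := fun h => hle (sup_le hc1 h)
    obtain ⟨y, hy, hxy⟩ := Set.not_subset.1 hc2
    exact S.tri_aux T₀ T₂ T₁ b02 b01 (by rw [inf_comm]; exact b12) hm hy fun h => hxy (mem_kr.2 h)
  · obtain ⟨y, hy, hxy⟩ := Set.not_subset.1 hc1
    exact S.tri_aux T₀ T₁ T₂ b01 b02 b12 hm hy fun h => hxy (mem_kr.2 h)

end Cfsg.Agent.R2.H8.Core
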