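import Cfsg.Agent.R2.H8.Core.Frame
import Cfsg.Agent.R2.H8.Core.Tri
import Cfsg.Agent.R2.H8.Core.Pat
import Cfsg.Agent.R2.H22.Q7
import Cfsg.Agent.R2.H6P2.Main
import Cfsg.Agent.R2.P3.Main3

/-!
# S5749, S5750: the case distinction (helper8)

`core_two`, `core_three` : no configuration for `p = 2, 3`; `core_five` : the case `p ≥ 5`, from the three remaining
patterns `[4],[8],[12]` (`p ≥ 13`), `[1,1],[4],[8],[8]` (`p = 11`, `a ≥ 2`) and `[],[2],[4],[8],[8]` (`p = 11`, `a = 1`).
-/

set_option autoImplicit false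
set_option linter.unusedSectionVars false
set_option maxHeartbeats 400000

namespace Cfsg.Agent.R2.H8.Core

open Cfsg Cfsg.Lie Module Matrix
open Cfsg.Agent.ChevalleyStructure
open Cfsg.Agent.ChevalleyStructure.E6Min.Basic
open Cfsg.Agent.H943.SL2Rel Cfsg.Agent.H943.SL2Mod Cfsg.Agent.H943.RepAdd
open Cfsg.Agent.R2.H28.SL2
open Cfsg.Agent.H163.E6 (V V')
open Cfsg.Agent.H65.E6Emb
open Cfsg.Agent.R2.GEO (Pair)
open Cfsg.Agent.R2.H9.E6
open Cfsg.Agent.R2.H22.Loc (Nts)
open Cfsg.Agent.R2.SL2 (tyl listE6 listE6_3 tyl_two)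
open Cfsg.Agent.R2.H8.NoFix

universe u v w

theorem exists_iota (p : ℕ) [Fact p.Prime] (K : Type v) [Field K] [Finite K] [CharP K p] (k : Type u) [Field k]
    [CharP k p] [IsAlgClosed k] : Nonempty (K →+* k) := by
  let _ := ZMod.algebra K p
  let _ := ZMod.algebra k p
  have h1 : Module.Finite (ZMod p) K := Module.Finite.of_finite
  have h2 : Algebra.IsAlgebraic (ZMod p) K := Algebra.IsAlgebraic.of_finite (ZMod p) K
  exact ⟨(IsAlgClosed.lift (R := ZMod p) (S := K) (M := k)).toRingHom⟩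

variable {F : Type u} [Field F] [Fintype F] {K : Type v} [Field K] [Fintype K] {p a b : ℕ}
  {Γ M : Subgroup ↥(Zgrp F)} {ψ : ProjectiveSpecialLinearGroup (Fin 2) K →* ↥(Zgrp F)}

/-- the representation over the algebraic closure -/
noncomputable abbrev psk (ψ : ProjectiveSpecialLinearGroup (Fin 2) K →* ↥(Zgrp F)) :
    SpecialLinearGroup (Fin 2) K →* ↥(Zgrp (AlgebraicClosure F)) :=
  (emb (algebraMap F (AlgebraicClosure F))).comp (ψ.comp pq)

/-- **characteristic 2** -/
theorem core_two (h : Cfg 2 a b Γ M ψ) : False :=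
  Cfsg.Agent.R2.H6P2.p2_false h fun ρ hρ v hv => NoFix.Main.no_fix h ρ hρ v hv

/-- **characteristic 3** -/
theorem core_three (h : Cfg 3 a b Γ M ψ) : False := by
  classical
  have hfact : Fact (Nat.Prime 3) := ⟨Nat.prime_three⟩
  have hcF := h.charF
  have hcK := h.charK
  have hck : CharP (AlgebraicClosure F) 3 :=
    charP_of_injective_algebraMap (algebraMap F (AlgebraicClosure F)).injective 3
  obtain ⟨ι⟩ := exists_iota 3 K (AlgebraicClosure F)
  have ha : 3 ≤ a := by
    have h1 := h.seven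
    have h2 := h.nine
    rw [h.cardK] at h1 h2
    by_contra hc
    have h3 : a = 0 ∨ a = 1 ∨ a = 2 := by omega
    rcases h3 with rfl | rfl | rfl
    · norm_num at h1
    · norm_num at h1
    · exact h2 (by norm_num)
  obtain ⟨W, hW, hw⟩ := exists_pat' (p := 3) (a := a) h.cardK ι
    (φ := (emb (algebraMap F (AlgebraicClosure F))).comp ψ) ((emb_injective _).comp h.set.inj)
  have hW3 : W ∈ listE6_3 := by
    rcases hW with ⟨h1, -⟩ | ⟨-, h1⟩ | ⟨h1, -⟩
    · omega
    · exact h1
    · omega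
  exact Cfsg.Agent.R2.P3.false_three ι (algebraMap F (AlgebraicClosure F)) h ha
    (fra_of_cfg h (by norm_num) (algebraMap F (AlgebraicClosure F)) (Or.inl ⟨rfl, rfl⟩))
    (nts_of_cfg h (by norm_num) ι (ρ := V (AlgebraicClosure F)) (ρ' := V' (AlgebraicClosure F)) (Or.inl ⟨rfl, rfl⟩))
    (nts_of_cfg h (by norm_num) ι (ρ := V' (AlgebraicClosure F)) (ρ' := V (AlgebraicClosure F)) (Or.inr ⟨rfl, rfl⟩))
    hW3 hw

/-- **`p ≥ 5`**, from the remaining patterns -/
theorem core_five_of (h : Cfg p a b Γ M ψ) (h5 : 5 ≤ p)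
    (mis : ∀ [DecidableEq (AlgebraicClosure F)] [DecidableEq K] [Fact p.Prime] [CharP (AlgebraicClosure F) p] [CharP K p]
      (ι : K →+* AlgebraicClosure F) (W : List (List ℕ)),
      Fra p a (psk ψ) (V (AlgebraicClosure F)) (V' (AlgebraicClosure F)) → Nts (psk ψ) (V (AlgebraicClosure F)) →
      Nts (psk ψ) (V' (AlgebraicClosure F)) → (13 ≤ p ∧ W = [[4], [8], [12]]) ∨
        (p = 11 ∧ 2 ≤ a ∧ W = [[1, 1], [4], [8], [8]]) ∨ (a = 1 ∧ p = 11 ∧ W = [[], [2], [4], [8], [8]]) →
      (W : Multiset (List ℕ)) = (cf (Sy.{u, u, v} ι p) (Rr (V (AlgebraicClosure F)) (psk ψ))).map (tyl p) → False) :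
    False := by
  classical
  have hp := h.prime
  have hfact : Fact p.Prime := ⟨hp⟩
  have hcF := h.charF
  have hcK := h.charK
  have hck : CharP (AlgebraicClosure F) p :=
    charP_of_injective_algebraMap (algebraMap F (AlgebraicClosure F)).injective p
  obtain ⟨ι⟩ := exists_iota p K (AlgebraicClosure F)
  obtain ⟨W, hW, hw⟩ := exists_pat' (p := p) (a := a) h.cardK ι
    (φ := (emb (algebraMap F (AlgebraicClosure F))).comp ψ) ((emb_injective _).comp h.set.inj)
  have hWm : W ∈ listE6 := by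
    rcases hW with ⟨-, h1⟩ | ⟨h1, -⟩ | ⟨h1, -⟩
    · exact h1
    · omega
    · omega
  have hw' : (W : Multiset (List ℕ)) =
      (cf (Sy.{u, u, v} ι p) (Rr (V (AlgebraicClosure F)) (psk ψ))).map (tyl p) := hw
  have f : Fra p a (psk ψ) (V (AlgebraicClosure F)) (V' (AlgebraicClosure F)) :=
    fra_of_cfg h (by omega) (algebraMap F (AlgebraicClosure F)) (Or.inl ⟨rfl, rfl⟩)
  have nts : Nts (psk ψ) (V (AlgebraicClosure F)) :=
    nts_of_cfg h (by omega) ι (ρ := V (AlgebraicClosure F)) (ρ' := V' (AlgebraicClosure F)) (Or.inl ⟨rfl, rfl⟩)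
  have nts' : Nts (psk ψ) (V' (AlgebraicClosure F)) :=
    nts_of_cfg h (by omega) ι (ρ := V' (AlgebraicClosure F)) (ρ' := V (AlgebraicClosure F)) (Or.inr ⟨rfl, rfl⟩)
  have h7 := h.seven
  rw [h.cardK] at h7
  by_cases hq : 9 ≤ p ^ a
  · rcases f.kills ι h5 hq nts nts' hWm hw' with ⟨ha, rfl⟩ | h1 | h1 | h1
    · have S : All22 ι p a (psk ψ) (V (AlgebraicClosure F)) (V' (AlgebraicClosure F)) := by
        refine ⟨f, h5, fun c hc => ?_⟩
        have h2 : tyl p c ∈ (([[2, 2], [2, 2], [2, 2]] : List (List ℕ)) : Multiset (List ℕ)) := by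
          rw [hw']
          exact Multiset.mem_map_of_mem _ hc
        have h3 : tyl p c = [2, 2] := by simpa using h2
        obtain ⟨i, j, hij, rfl⟩ := tyl_two h3
        have hlt := cf_lt ι p h.cardK _ _ hc
        have hi : i < a := by
          by_contra hc
          have h6 : p ^ a ≤ p ^ i := Nat.pow_le_pow_right (by omega) (by omega)
          omega
        have hj : j < a := by
          by_contra hc
          have h6 : p ^ a ≤ p ^ j := Nat.pow_le_pow_right (by omega) (by omega)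
          omega
        exact ⟨i, j, hij, hi, hj, rfl⟩
      obtain ⟨i, D, X, hX, hV⟩ := S.triangle
      exact Cfsg.Agent.R2.H14.T.boxT ι (algebraMap F (AlgebraicClosure F)) h D h5 X hX hV
    · exact mis ι W f nts nts' (Or.inl h1) hw'
    · exact mis ι W f nts nts' (Or.inr (Or.inl h1)) hw'
    · exact mis ι W f nts nts' (Or.inr (Or.inr h1)) hw'
  · have ha1 := h.ha
    have hpa : p ≤ p ^ a := by
      calc p = p ^ 1 := (pow_one p).symm
        _ ≤ p ^ a := Nat.pow_le_pow_right hp.pos ha1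
    have ha : a = 1 := by
      by_contra hc
      have h1 : p ^ 2 ≤ p ^ a := Nat.pow_le_pow_right hp.pos (by omega)
      have h2 : 5 ^ 2 ≤ p ^ 2 := Nat.pow_le_pow_left h5 2
      omega
    have hp7 : p = 7 := by
      rw [ha, pow_one] at h7 hq
      have h8 : p = 7 ∨ p = 8 := by omega
      rcases h8 with h8 | h8
      · exact h8
      · rw [h8] at hp
        exact absurd hp (by norm_num)
    exact Cfsg.Agent.R2.H22.Q7.q7_false ι f hp7 ha nts nts' (f.kills7 ι hp7 ha hWm hw') hw'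

end Cfsg.Agent.R2.H8.Core
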